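import Groth.Agent.DCohMore.RpushPerf
import Groth.Agent.DCohMore.PCTensorPush
import Groth.Agent.DCohMore.RHomCoh
import Groth.Agent.SiteCmpLib.Devissage
import Groth.Agent.ClSubLib.ProperOver

/-! Derived tensor products of a perfect object with a bounded coherent one. -/

set_option autoImplicit false
set_option backward.isDefEq.respectTransparency false
set_option linter.style.haveILetI false

universe u

open CategoryTheory CategoryTheory.Limits AlgebraicGeometry CategoryTheory.Pretriangulated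

attribute [local instance] HasDerivedCategory.standard

noncomputable section

namespace Groth.Agent.FMPerfLib

open Groth.Agent.DCohLib Groth.Agent.DCohMore

variable {X : Scheme.{u}}

/-- Bounded, coherent, supported in `Z`. -/
def CohBddOn (Z : Set X) (E : DCoh.D X) : Prop :=
  DCoh.IsCohD E ∧ (∃ a b : ℤ, E.IsGE a ∧ E.IsLE b) ∧ ∀ i : ℤ, CohB1.support (DCoh.HD E i) ⊆ Z

theorem isClosedUnderIso_support {M N : X.Modules} (e : M ≅ N) :
    CohB1.support M = CohB1.support N :=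
  Set.ext fun x => not_congr ((stkF x).mapIso e).toLinearEquiv.toEquiv.subsingleton_congr

theorem cohBddOn_iso [IsLocallyNoetherian X] {Z : Set X} {E E' : DCoh.D X} (e : E ≅ E') (h : CohBddOn Z E) :
    CohBddOn Z E' := by
  obtain ⟨hc, ⟨a, b, ha, hb⟩, hs⟩ := h
  refine ⟨isCohD_of_iso' e hc, ⟨a, b, ?_, ?_⟩, fun i => ?_⟩
  · exact (DerivedCategory.TStructure.t (C := X.Modules)).isGE_of_iso e a
  · exact (DerivedCategory.TStructure.t (C := X.Modules)).isLE_of_iso e b
  · rw [← isClosedUnderIso_support ((DerivedCategory.homologyFunctor X.Modules i).mapIso e)]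
    exact hs i

theorem cohBddOn_shift [IsLocallyNoetherian X] {Z : Set X} {E : DCoh.D X} (n : ℤ) (h : CohBddOn Z E) :
    CohBddOn Z (E⟦n⟧) := by
  obtain ⟨hc, ⟨a, b, ha, hb⟩, hs⟩ := h
  refine ⟨fun q => isCoh_iso (((DerivedCategory.homologyFunctor X.Modules 0).shiftIso n q (n + q) rfl).app E).symm
    (hc (n + q)), ⟨a - n, b - n, ?_, ?_⟩, fun q => ?_⟩
  · exact (DerivedCategory.TStructure.t (C := X.Modules)).isGE_shift E a n (a - n) (by omega)
  · exact (DerivedCategory.TStructure.t (C := X.Modules)).isLE_shift E b n (b - n) (by omega)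
  · exact (isClosedUnderIso_support
      (((DerivedCategory.homologyFunctor X.Modules 0).shiftIso n q (n + q) rfl).app E)).trans_subset (hs (n + q))

theorem cohBddOn_obj₂ [IsLocallyNoetherian X] {Z : Set X} (T : Triangle (DCoh.D X)) (hT : T ∈ distTriang _)
    (h₁ : CohBddOn Z T.obj₁) (h₃ : CohBddOn Z T.obj₃) : CohBddOn Z T.obj₂ := by
  obtain ⟨hc, ⟨a, b, ha, hb⟩, hs⟩ := h₁
  obtain ⟨hc', ⟨a', b', ha', hb'⟩, hs'⟩ := h₃
  refine ⟨isCohD_obj₂ T hT hc hc', ⟨min a a', max b b', ?_, ?_⟩, fun i x hx => ?_⟩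
  · let t := DerivedCategory.TStructure.t (C := X.Modules)
    exact t.isGE₂ T hT _ (t.isGE_of_ge T.obj₁ _ a (min_le_left a a'))
      (t.isGE_of_ge T.obj₃ _ a' (min_le_right a a'))
  · let t := DerivedCategory.TStructure.t (C := X.Modules)
    exact t.isLE₂ T hT _ (t.isLE_of_le T.obj₁ b _ (le_max_left b b'))
      (t.isLE_of_le T.obj₃ b' _ (le_max_right b b'))
  · by_contra hZ
    refine hx (show Subsingleton ((stkF x).obj (DCoh.HD T.obj₂ i)) from ModuleCat.subsingleton_of_isZero ?_)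
    have h1 : IsZero ((stkF x).obj (DCoh.HD T.obj₁ i)) := by
      haveI : Subsingleton ((stkF x).obj (DCoh.HD T.obj₁ i)) := not_not.1 fun h => hZ (hs i h)
      exact ModuleCat.isZero_of_subsingleton _
    have h3 : IsZero ((stkF x).obj (DCoh.HD T.obj₃ i)) := by
      haveI : Subsingleton ((stkF x).obj (DCoh.HD T.obj₃ i)) := not_not.1 fun h => hZ (hs' i h)
      exact ModuleCat.isZero_of_subsingleton _
    exact ((DerivedCategory.HomologySequence.exact₂ T hT i).map (stkF x)).isZero_of_both_zeros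
      (h1.eq_of_src _ _) (h3.eq_of_tgt _ _)

/-- Tensoring with a K-flat complex commutes with shifts. -/
def lTensorShift (P : CochainComplex X.Modules ℤ) (hP : DCoh.IsKFlat P) (E : DCoh.D X) (n : ℤ) :
    (DCoh.LTensorCx P).obj (E⟦n⟧) ≅ ((DCoh.LTensorCx P).obj E)⟦n⟧ :=
  let A := DerivedCategory.Q.objPreimage E
  let e : DerivedCategory.Q.obj A ≅ E := DerivedCategory.Q.objObjPreimageIso E
  let l := lTensorCxIsoQ P P (𝟙 P) inferInstance hP
  (DCoh.LTensorCx P).mapIso (((shiftFunctor (DCoh.D X) n).mapIso e).symm ≪≫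
      ((DerivedCategory.Q.commShiftIso n).app A).symm) ≪≫
    l.app (A⟦n⟧) ≪≫
    DerivedCategory.Q.mapIso (CochainComplex.mapBifunctorShift₁Iso A P (DCoh.tensorBi (X := X)) n) ≪≫
    (DerivedCategory.Q.commShiftIso n).app _ ≪≫
    (shiftFunctor (DCoh.D X) n).mapIso ((l.app A).symm ≪≫ (DCoh.LTensorCx P).mapIso e)

/-- Tensoring with a module, computed with a K-flat representative of the other factor. -/
theorem nonempty_lTensorMod_symm (G : X.Modules) [DCoh.HasLTensorMod G] (E : DCoh.D X)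
    (P : CochainComplex X.Modules ℤ) (hP : DCoh.IsKFlat P) (eE : DCoh.toD X P ≅ E) :
    Nonempty ((DCoh.LTensorMod G).obj E ≅ (DCoh.LTensorCx P).obj (DerivedCategory.Q.obj (sgl₀ G))) := by
  obtain ⟨e⟩ := nonempty_lTensorMod_single G E
  let a : (DCoh.LTensorMod G).obj E ≅ DerivedCategory.Q.obj ((DCoh.tensorCx.obj P).obj (sgl₀ G)) :=
    e ≪≫ (DCoh.LTensorCx (sgl₀ G)).mapIso eE.symm ≪≫ lTensorIso (sgl₀ G) P hP
  let b : (DCoh.LTensorCx P).obj (DerivedCategory.Q.obj (sgl₀ G)) ≅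
      DerivedCategory.Q.obj ((DCoh.tensorCx.obj (sgl₀ G)).obj P) :=
    (lTensorCxIsoQ P P (𝟙 P) inferInstance hP).app (sgl₀ G)
  exact ⟨a ≪≫ DerivedCategory.Q.mapIso (TildeD.tensorCxSymm P (sgl₀ G)) ≪≫ b.symm⟩

/-- Tensoring with a complex, computed with a K-flat representative of the other factor. -/
theorem nonempty_lTensorCx_symm (K : CochainComplex X.Modules ℤ) [DCoh.HasLTensorCx K] (E : DCoh.D X)
    (P : CochainComplex X.Modules ℤ) (hP : DCoh.IsKFlat P) (eE : DCoh.toD X P ≅ E) :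
    Nonempty ((DCoh.LTensorCx K).obj E ≅ (DCoh.LTensorCx P).obj (DerivedCategory.Q.obj K)) := by
  let a : (DCoh.LTensorCx K).obj E ≅ DerivedCategory.Q.obj ((DCoh.tensorCx.obj P).obj K) :=
    (DCoh.LTensorCx K).mapIso eE.symm ≪≫ lTensorIso K P hP
  let b : (DCoh.LTensorCx P).obj (DerivedCategory.Q.obj K) ≅
      DerivedCategory.Q.obj ((DCoh.tensorCx.obj K).obj P) :=
    (lTensorCxIsoQ P P (𝟙 P) inferInstance hP).app K
  exact ⟨a ≪≫ DerivedCategory.Q.mapIso (TildeD.tensorCxSymm P K) ≪≫ b.symm⟩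

theorem isClosedUnderIso_good [IsLocallyNoetherian X] (Z : Set X) (P : CochainComplex X.Modules ℤ)
    {F F' : DCoh.D X} (e : F ≅ F') (h : ∀ n : ℤ, CohBddOn Z ((DCoh.LTensorCx P).obj (F⟦n⟧))) (n : ℤ) :
    CohBddOn Z ((DCoh.LTensorCx P).obj (F'⟦n⟧)) :=
  cohBddOn_iso ((DCoh.LTensorCx P).mapIso ((shiftFunctor (DCoh.D X) n).mapIso e)) (h n)

theorem good_obj₂ [IsLocallyNoetherian X] (Z : Set X) (P : CochainComplex X.Modules ℤ)
    (T : Triangle (DCoh.D X)) (hT : T ∈ distTriang _) (n : ℤ)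
    (h₁ : CohBddOn Z ((DCoh.LTensorCx P).obj (T.obj₁⟦n⟧))) (h₃ : CohBddOn Z ((DCoh.LTensorCx P).obj (T.obj₃⟦n⟧))) :
    CohBddOn Z ((DCoh.LTensorCx P).obj (T.obj₂⟦n⟧)) := by
  have hTn := inv_rot_of_distTriang _ (Triangle.shift_distinguished T hT n)
  obtain ⟨T', hT', ⟨e₁⟩, ⟨e₂⟩, ⟨e₃⟩⟩ := exists_lTensorCx_triangle P _ hTn
  let c : ((Triangle.shiftFunctor (DCoh.D X) n).obj T).invRotate.obj₁⟦(1 : ℤ)⟧ ≅ T.obj₃⟦n⟧ :=
    (shiftEquiv (DCoh.D X) (1 : ℤ)).counitIso.app _
  exact cohBddOn_iso e₂ (cohBddOn_obj₂ T' hT' (cohBddOn_iso e₁.symm h₁)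
    (cohBddOn_iso e₃.symm (cohBddOn_iso ((DCoh.LTensorCx P).mapIso c.symm) h₃)))

theorem good_single [IsLocallyNoetherian X] [CompactSpace X] (Z : Set X) (E : DCoh.D X) (hE : DCoh.IsPerfect E)
    (P : CochainComplex X.Modules ℤ) (hP : DCoh.IsKFlat P) (eE : DCoh.toD X P ≅ E)
    (G : X.Modules) (hG : Coh.IsCoh G) (hGZ : CohB1.support G ⊆ Z) (n : ℤ) :
    CohBddOn Z ((DCoh.LTensorCx P).obj ((DCoh.inD X G)⟦n⟧)) := by
  refine cohBddOn_iso (lTensorShift P hP _ n).symm (cohBddOn_shift n ?_)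
  obtain ⟨e⟩ := nonempty_lTensorMod_symm G E P hP eE
  obtain ⟨a, b, -, h⟩ := exists_torAmplitude_of_perfect E hE
  haveI := hG.1
  have hT : CohBddOn Z ((DCoh.LTensorMod G).obj E) :=
    ⟨isCohD_lTensorMod E hE G hG, ⟨a, b, (DerivedCategory.isGE_iff _ _).2 fun i hi => h G i (Or.inl hi),
      (DerivedCategory.isLE_iff _ _).2 fun i hi => h G i (Or.inr hi)⟩,
      fun i => (support_lTensorMod_subset E G i).trans hGZ⟩
  exact cohBddOn_iso ((DCoh.LTensorCx P).mapIso
    ((DerivedCategory.singleFunctorIsoCompQ X.Modules 0).app G).symm) (cohBddOn_iso e hT)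

/-- The derived tensor product of a bounded coherent object with a perfect object is bounded and coherent, and
supported on the support of the coherent object. -/
theorem cohBddOn_lTensorCx [IsLocallyNoetherian X] [CompactSpace X] (E : DCoh.D X) (hE : DCoh.IsPerfect E)
    (K : CochainComplex X.Modules ℤ) [DCoh.HasLTensorCx K] (hK : DCoh.IsCohD (DCoh.toD X K)) (l u : ℤ)
    (hl : DerivedCategory.IsGE (DCoh.toD X K) l) (hu : DerivedCategory.IsLE (DCoh.toD X K) u)
    (Z : Set X) (hZ : ∀ i : ℤ, CohB1.support (DCoh.HD (DCoh.toD X K) i) ⊆ Z) :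
    CohBddOn Z ((DCoh.LTensorCx K).obj E) := by
  let P := (resX X).obj (DerivedCategory.Q.objPreimage E)
  have hP : DCoh.IsKFlat P := isKFlat_resX _
  obtain ⟨e⟩ := nonempty_lTensorCx_symm K E P hP (resXIso E)
  refine cohBddOn_iso e.symm ?_
  let Good : ObjectProperty (DCoh.D X) := fun F => ∀ n : ℤ, CohBddOn Z ((DCoh.LTensorCx P).obj (F⟦n⟧))
  haveI : Good.IsClosedUnderIsomorphisms := ⟨fun e h => isClosedUnderIso_good Z P e h⟩
  have hshift : ∀ (F : DCoh.D X) (n : ℤ), Good F → Good (F⟦n⟧) := fun F n h m =>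
    cohBddOn_iso ((DCoh.LTensorCx P).mapIso ((shiftFunctorAdd (DCoh.D X) n m).app F)) (h (n + m))
  have htri : ∀ T ∈ distTriang (DCoh.D X), Good T.obj₁ → Good T.obj₃ → Good T.obj₂ :=
    fun T hT h₁ h₃ n => good_obj₂ Z P T hT n (h₁ n) (h₃ n)
  have hgood : Good (DCoh.toD X K) := by
    haveI := hl
    haveI := hu
    refine SiteCmpLib.prop_of_bounded Good hshift htri (u - l).toNat l _ hl ?_
      fun q => good_single Z E hE P hP (resXIso E) _ (hK q) (hZ q)
    exact (DerivedCategory.TStructure.t (C := X.Modules)).isLE_of_le _ u _ (by omega)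
  exact cohBddOn_iso ((DCoh.LTensorCx P).mapIso ((shiftFunctorZero (DCoh.D X) ℤ).app _)) (hgood 0)

end Groth.Agent.FMPerfLib
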