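import Groth.Agent.TildeD.TensorQCoh
import Groth.Agent.DCohLib.TensorPerf
import Groth.Agent.DCohLib.TwoThree

/-! Derived tensor products of perfect objects, in Fourier–Mukai form. -/

set_option autoImplicit false
set_option backward.isDefEq.respectTransparency false
set_option linter.style.haveILetI false

universe u

open CategoryTheory CategoryTheory.Limits AlgebraicGeometry

attribute [local instance] HasDerivedCategory.standard

noncomputable section

namespace Groth.Agent.FMPerfLib

open Groth.Agent.DCohLib Groth.Agent.TildeD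

variable {X : Scheme.{u}}

theorem isPerfect_lTensorCx (F : CochainComplex X.Modules ℤ) [DCoh.HasLTensorCx F]
    (hF : DCoh.IsPerfect (DCoh.toD X F)) (E : DCoh.D X) (hE : DCoh.IsPerfect E) :
    DCoh.IsPerfect ((DCoh.LTensorCx F).obj E) := by
  let R := (resX X).obj F
  have hR : DCoh.IsKFlat R := isKFlat_resX F
  let P := (resX X).obj (DerivedCategory.Q.objPreimage E)
  have hRp : DCoh.IsPerfect (DerivedCategory.Q.obj R) :=
    isPerfect_iso (@asIso _ _ _ _ _ (isIso_Q_resXπ F)).symm hF
  let e : (DCoh.LTensorCx F).obj E ≅ (DCoh.LTensorCx R).obj E :=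
    (DCoh.LTensorCx F).mapIso (resXIso E).symm ≪≫
      (lTensorCxIsoQ F R ((resXπ X).app F) (quasiIso_resXπ F) hR).app P ≪≫
      ((lTensorCxIsoQ R R (𝟙 R) inferInstance hR).app P).symm ≪≫ (DCoh.LTensorCx R).mapIso (resXIso E)
  exact isPerfect_iso e.symm (isPerfect_lTensor R hR hRp E hE)

end Groth.Agent.FMPerfLib
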