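import Groth.Agent.FMPerfLib.Bounded
import Groth.Agent.DCohMore.TensorRelPerf
import Groth.Agent.DCohLib.DualBase

/-! The derived tensor product of bounded above coherent objects is bounded above and coherent. -/

set_option autoImplicit false
set_option backward.isDefEq.respectTransparency false
set_option linter.style.haveILetI false

universe u

open CategoryTheory CategoryTheory.Limits AlgebraicGeometry CategoryTheory.Pretriangulated

attribute [local instance] HasDerivedCategory.standard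

noncomputable section

namespace Groth.Agent.FMPerfLib

open Groth.Agent.DCohLib Groth.Agent.DCohMore

variable {X : Scheme.{u}}

theorem isCohD_lTensorCx_noeth [IsNoetherian X] (F : CochainComplex X.Modules ℤ) [DCoh.HasLTensorCx F]
    (b : ℤ) [(DCoh.toD X F).IsLE b] (hF : DCoh.IsCohD (DCoh.toD X F))
    (L : DCoh.D X) (c : ℤ) [L.IsLE c] (hL : DCoh.IsCohD L) : DCoh.IsCohD ((DCoh.LTensorCx F).obj L) := fun i => by
  have hFpc : ∀ m : ℤ, DCoh.IsPseudoCoherentD m (DCoh.toD X F) := isPseudoCoherentD_of_coh _ b hF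
  obtain ⟨r, hr⟩ := appr_main (X := X) Set.univ isClosed_univ (by rw [Set.compl_univ]; exact isCompact_empty)
  obtain ⟨P, α, hP, -, C, p, d, hT, hC⟩ := hr (i - b - 1) L (fun q => (hL q).1)
    (isPseudoCoherentD_of_coh L c hL _) fun q _ x _ => Set.mem_univ x
  haveI : C.IsLE (i - b - 2) := (DerivedCategory.isLE_iff _ _).2 fun q hq => hC q (by omega)
  have hLC := isLE_lTensorCx F b C (i - b - 2)
  obtain ⟨T', hT', ⟨e₁⟩, ⟨e₂⟩, ⟨e₃⟩⟩ := exists_lTensorCx_triangle F _ hT
  let P' := (resX X).obj (DerivedCategory.Q.objPreimage (P⟦(1 : ℤ)⟧))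
  have hP' : DCoh.IsKFlat P' := isKFlat_resX _
  have hpc : ∀ m : ℤ, DCoh.IsPseudoCoherentD m ((DCoh.LTensorCx F).obj (P⟦(1 : ℤ)⟧)) := fun m =>
    isPseudoCoherentD_iso ((lTensorIso F P' hP').symm ≪≫ (DCoh.LTensorCx F).mapIso (resXIso _))
      (isPseudoCoherentD_tensorCx hP' (isPerfect_iso (resXIso _).symm (isPerfect_shift hP 1)) hFpc m)
  have hcoh : Coh.IsCoh (DCoh.HD T'.obj₃ (i - 1)) :=
    isCoh_iso ((DerivedCategory.homologyFunctor X.Modules (i - 1)).mapIso e₃.symm)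
      (((TildePerf.pc_iff_noetherian _ (isQCohD_of_pc hpc) (i - 1)).1 (hpc _)).1 _ le_rfl)
  have hzero : ∀ q, i - 1 ≤ q → IsZero (DCoh.HD T'.obj₂ q) := fun q hq =>
    ((DerivedCategory.isLE_iff _ _).1 hLC q (by omega)).of_iso
      ((DerivedCategory.homologyFunctor X.Modules q).mapIso e₂)
  have hh : i - 1 + 1 = i := by omega
  haveI : IsIso (DerivedCategory.HomologySequence.δ T' (i - 1) i hh) :=
    @isIso_of_mono_of_epi _ _ _ _ _ _
      ((DerivedCategory.HomologySequence.exact₃ T' hT' (i - 1) i hh).mono_g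
        ((hzero (i - 1) le_rfl).eq_of_src _ _))
      ((DerivedCategory.HomologySequence.exact₁ T' hT' (i - 1) i hh).epi_f
        ((hzero i (by omega)).eq_of_tgt _ _))
  exact isCoh_iso (asIso (DerivedCategory.HomologySequence.δ T' (i - 1) i hh) ≪≫
    (DerivedCategory.homologyFunctor X.Modules i).mapIso e₁) hcoh

theorem isLE_restrictD (W : X.Opens) (K : DCoh.D X) (d : ℤ) (hd : K.IsLE d) :
    ((DCoh.restrictD W.ι).obj K).IsLE d :=
  (DerivedCategory.isLE_iff _ d).2 fun q hq =>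
    (AboveZero.restrict W.ι (m := d + 1) fun k hk => (DerivedCategory.isLE_iff K d).1 hd k (by omega)) q (by omega)

theorem nonempty_restrict_lTensorCx_resX (W : X.Opens) (F : CochainComplex X.Modules ℤ) [DCoh.HasLTensorCx F]
    (L : DCoh.D X) :
    Nonempty ((DCoh.LTensorCx ((resCx W.ι).obj ((resX X).obj F))).obj ((DCoh.restrictD W.ι).obj L) ≅
      (DCoh.restrictD W.ι).obj ((DCoh.LTensorCx F).obj L)) := by
  obtain ⟨e⟩ := nonempty_lTensor_of_qis ((resXπ X).app F) (quasiIso_resXπ F)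
  exact ⟨(restrictLTensorIso W ((resX X).obj F) (isKFlat_resX F)).app L ≪≫
    (DCoh.restrictD W.ι).mapIso (e.app L)⟩

theorem nonempty_restrict_resX (W : X.Opens) (F : CochainComplex X.Modules ℤ) :
    Nonempty ((DCoh.restrictD W.ι).obj (DCoh.toD X F) ≅ DCoh.toD _ ((resCx W.ι).obj ((resX X).obj F))) :=
  ⟨(DCoh.restrictD W.ι).mapIso (@asIso _ _ _ _ _ (isIso_Q_resXπ F)).symm ≪≫ restrictDQ W.ι _⟩

theorem isCoh_local_lTensorCx [IsLocallyNoetherian X] (W : X.Opens) [IsNoetherian (W : Scheme.{u})]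
    (F : CochainComplex X.Modules ℤ) [DCoh.HasLTensorCx F] (b : ℤ) (hFb : (DCoh.toD X F).IsLE b)
    (hF : DCoh.IsCohD (DCoh.toD X F)) (L : DCoh.D X) (c : ℤ) (hLc : L.IsLE c) (hL : DCoh.IsCohD L) :
    DCoh.IsCohD ((DCoh.restrictD W.ι).obj ((DCoh.LTensorCx F).obj L)) := by
  obtain ⟨eF⟩ := nonempty_restrict_resX W F
  obtain ⟨e⟩ := nonempty_restrict_lTensorCx_resX W F L
  haveI := isLE_restrictD W _ b hFb
  haveI := isLE_restrictD W L c hLc
  haveI : (DCoh.toD _ ((resCx W.ι).obj ((resX X).obj F))).IsLE b :=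
    (DerivedCategory.TStructure.t (C := (W : Scheme.{u}).Modules)).isLE_of_iso eF b
  exact isCohD_of_iso' e (isCohD_lTensorCx_noeth ((resCx W.ι).obj ((resX X).obj F)) b
    (isCohD_of_iso' eF (isCohD_restrict' hF W)) ((DCoh.restrictD W.ι).obj L) c (isCohD_restrict' hL W))

theorem isCohD_lTensorCx [IsLocallyNoetherian X] (F : CochainComplex X.Modules ℤ) [DCoh.HasLTensorCx F]
    (b : ℤ) [hFb : (DCoh.toD X F).IsLE b] (hF : DCoh.IsCohD (DCoh.toD X F))
    (L : DCoh.D X) (c : ℤ) [hLc : L.IsLE c] (hL : DCoh.IsCohD L) : DCoh.IsCohD ((DCoh.LTensorCx F).obj L) := fun i => by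
  refine isCoh_of_local fun x => ?_
  obtain ⟨_, ⟨W : X.Opens, hW, rfl⟩, hx, -⟩ :=
    X.isBasis_affineOpens.exists_subset_of_mem_open (a := x) (Set.mem_univ x) isOpen_univ
  haveI : IsAffine (W : Scheme.{u}) := hW
  haveI : IsNoetherian (W : Scheme.{u}) := {}
  refine ⟨W, hx, ?_⟩
  exact isCoh_iso (restrictHDIso W.ι _ i) (isCoh_local_lTensorCx W F b hFb hF L c hLc hL i)

end Groth.Agent.FMPerfLib
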