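import Groth.Agent.FMPerfLib.CohTensor
import Groth.Agent.DCohLib.PullPerf

/-! Transforms with a kernel flat over the source are bounded below. -/

set_option autoImplicit false
set_option backward.isDefEq.respectTransparency false
set_option linter.style.haveILetI false

universe u

open CategoryTheory CategoryTheory.Limits AlgebraicGeometry CategoryTheory.Pretriangulated

attribute [local instance] HasDerivedCategory.standard

noncomputable section

namespace Groth.Agent.FMPerfLib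

open Groth.Agent.DCohLib Groth.Agent.DCohMore

variable {X Z : Scheme.{u}} (p : Z ⟶ X) [DCoh.HasLpull p] (G : Z.Modules) [DCoh.HasLTensorMod G]

/-- A triangle made of the transforms of the objects of a triangle. -/
theorem exists_transform_triangle (T : Triangle (DCoh.D X)) (hT : T ∈ distTriang _) :
    ∃ T' : Triangle (DCoh.D Z), T' ∈ distTriang _ ∧
      Nonempty (T'.obj₁ ≅ (DCoh.LTensorMod G).obj ((DCoh.Lpull p).obj T.obj₁)) ∧
      Nonempty (T'.obj₂ ≅ (DCoh.LTensorMod G).obj ((DCoh.Lpull p).obj T.obj₂)) ∧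
      Nonempty (T'.obj₃ ≅ (DCoh.LTensorMod G).obj ((DCoh.Lpull p).obj T.obj₃)) := by
  obtain ⟨P, Q, φ, hP, hQ, -, -, ⟨e⟩⟩ := exists_resolved T hT
  let τ : ∀ A : CochainComplex X.Modules ℤ, DCoh.IsKFlat A →
      ((DCoh.LTensorMod G).obj ((DCoh.Lpull p).obj (DerivedCategory.Q.obj A)) ≅
        DerivedCategory.Q.obj
          (((DCoh.tensorRightMod G).mapHomologicalComplex (ComplexShape.up ℤ)).obj ((pullCx p).obj A))) :=
    fun A hA => (DCoh.LTensorMod G).mapIso (lpullIsoK p A hA) ≪≫ lTensorModIso G _ (isKFlat_pullback p hA)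
  refine ⟨DerivedCategory.Q.mapTriangle.obj (CochainComplex.mappingCone.triangle
      (((DCoh.tensorRightMod G).mapHomologicalComplex (ComplexShape.up ℤ)).map ((pullCx p).map φ))),
    DerivedCategory.mappingCone_triangle_distinguished _,
    ⟨(τ P hP).symm ≪≫ (DCoh.Lpull p ⋙ DCoh.LTensorMod G).mapIso (Triangle.π₁.mapIso e)⟩,
    ⟨(τ Q hQ).symm ≪≫ (DCoh.Lpull p ⋙ DCoh.LTensorMod G).mapIso (Triangle.π₂.mapIso e)⟩, ⟨?_⟩⟩
  exact DerivedCategory.Q.mapIso
      ((CochainComplex.mappingCone.mapHomologicalComplexIso ((pullCx p).map φ) _).symm ≪≫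
        ((DCoh.tensorRightMod G).mapHomologicalComplex (ComplexShape.up ℤ)).mapIso
          (CochainComplex.mappingCone.mapHomologicalComplexIso φ _).symm) ≪≫
    (τ _ (isKFlat_cone φ hP hQ)).symm ≪≫ (DCoh.Lpull p ⋙ DCoh.LTensorMod G).mapIso (Triangle.π₃.mapIso e)

/-- The transform of a module sits in one degree. -/
theorem exists_isGE_transform_single (hG : FlatMod.IsFlatOver p G) (F : X.Modules) (n : ℤ) :
    ∃ a : ℤ, DerivedCategory.IsGE
      ((DCoh.LTensorMod G).obj ((DCoh.Lpull p).obj ((DCoh.inD X F)⟦n⟧))) a := by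
  let t := DerivedCategory.TStructure.t (C := Z.Modules)
  let P := (resX X).obj (sgl₀ F)
  have hP : DCoh.IsKFlat P := isKFlat_resX _
  let eP : DerivedCategory.Q.obj P ≅ DerivedCategory.Q.obj (sgl₀ F) := @asIso _ _ _ _ _ (isIso_Q_resXπ (sgl₀ F))
  let eF : (DCoh.inD X F)⟦n⟧ ≅ DerivedCategory.Q.obj (P⟦n⟧) :=
    (shiftFunctor (DCoh.D X) n).mapIso
      ((DerivedCategory.singleFunctorIsoCompQ X.Modules 0).app F ≪≫ eP.symm) ≪≫
    ((DerivedCategory.Q.commShiftIso n).app P).symm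
  let T := (DCoh.tensorRightMod G).mapHomologicalComplex (ComplexShape.up ℤ)
  let B := T.obj ((pullCx p).obj P)
  let e : (DCoh.LTensorMod G).obj ((DCoh.Lpull p).obj ((DCoh.inD X F)⟦n⟧)) ≅ (DerivedCategory.Q.obj B)⟦n⟧ :=
    (DCoh.Lpull p ⋙ DCoh.LTensorMod G).mapIso eF ≪≫
      (DCoh.LTensorMod G).mapIso (lpullIsoK p _ (isKFlat_shift hP n)) ≪≫
      lTensorModIso G _ (isKFlat_pullback p (isKFlat_shift hP n)) ≪≫
      DerivedCategory.Q.mapIso (T.mapIso ((((Scheme.Modules.pullback p).mapHomologicalComplex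
        (ComplexShape.up ℤ)).commShiftIso n).app P) ≪≫
        ((((DCoh.tensorRightMod G).mapHomologicalComplex (ComplexShape.up ℤ)).commShiftIso n).app _)) ≪≫
      (DerivedCategory.Q.commShiftIso n).app B
  obtain ⟨h0, -⟩ := isGE_isLE_tensor_pullback p G hG F P eP
  haveI := h0
  haveI : (DerivedCategory.Q.obj B).IsGE 0 :=
    t.isGE_of_iso (DerivedCategory.Q.mapIso
      (totSingleIso ((pullCx p).obj P) G ≪≫ TildeD.tensorCxSymm _ _)).symm 0
  haveI := t.isGE_shift (DerivedCategory.Q.obj B) 0 n (-n) (by omega)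
  exact ⟨-n, t.isGE_of_iso e.symm (-n)⟩

/-- The transform of a bounded object is bounded below. -/
theorem exists_isGE_transform (hG : FlatMod.IsFlatOver p G) (M : DCoh.D X) (l u : ℤ) (hl : M.IsGE l)
    (hu : M.IsLE u) :
    ∃ a : ℤ, DerivedCategory.IsGE ((DCoh.LTensorMod G).obj ((DCoh.Lpull p).obj M)) a := by
  let t := DerivedCategory.TStructure.t (C := Z.Modules)
  let Φ := DCoh.Lpull p ⋙ DCoh.LTensorMod G
  let Good : ObjectProperty (DCoh.D X) := fun F => ∀ n : ℤ, ∃ a : ℤ, DerivedCategory.IsGE (Φ.obj (F⟦n⟧)) a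
  haveI : Good.IsClosedUnderIsomorphisms := ⟨fun e h n => by
    obtain ⟨a, ha⟩ := h n
    haveI := ha
    exact ⟨a, t.isGE_of_iso (Φ.mapIso ((shiftFunctor (DCoh.D X) n).mapIso e)) a⟩⟩
  have hshift : ∀ (F : DCoh.D X) (n : ℤ), Good F → Good (F⟦n⟧) := fun F n h m => by
    obtain ⟨a, ha⟩ := h (n + m)
    haveI := ha
    exact ⟨a, t.isGE_of_iso (Φ.mapIso ((shiftFunctorAdd (DCoh.D X) n m).app F)) a⟩
  have htri : ∀ T ∈ distTriang (DCoh.D X), Good T.obj₁ → Good T.obj₃ → Good T.obj₂ := by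
    intro T hT h₁ h₃ n
    obtain ⟨a, ha⟩ := h₁ n
    obtain ⟨b, hb⟩ := h₃ n
    obtain ⟨T', hT', ⟨e₁⟩, ⟨e₂⟩, ⟨e₃⟩⟩ :=
      exists_transform_triangle p G _ (Triangle.shift_distinguished T hT n)
    haveI : T'.obj₁.IsGE a := @CategoryTheory.Triangulated.TStructure.isGE_of_iso _ _ _ _ _ _ _ t _ _ e₁.symm a ha
    haveI : T'.obj₃.IsGE b := @CategoryTheory.Triangulated.TStructure.isGE_of_iso _ _ _ _ _ _ _ t _ _ e₃.symm b hb
    haveI : T'.obj₂.IsGE (min a b) :=
      t.isGE₂ T' hT' _ (t.isGE_of_ge T'.obj₁ _ a (min_le_left a b)) (t.isGE_of_ge T'.obj₃ _ b (min_le_right a b))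
    exact ⟨min a b, t.isGE_of_iso e₂ (min a b)⟩
  haveI := hl
  haveI := hu
  have hM : Good M := SiteCmpLib.prop_of_bounded Good hshift htri (u - l).toNat l M hl
    ((DerivedCategory.TStructure.t (C := X.Modules)).isLE_of_le _ u _ (by omega))
    fun q => exists_isGE_transform_single p G hG _
  obtain ⟨a, ha⟩ := hM 0
  haveI := ha
  exact ⟨a, t.isGE_of_iso (Φ.mapIso ((shiftFunctorZero (DCoh.D X) ℤ).app M)) a⟩

end Groth.Agent.FMPerfLib
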