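import Groth.Agent.FMPerfLib.Bounded
import Groth.Agent.DCohLib.FreeInd
import Groth.Agent.DCohMore.RpushPerfFP

/-! Direct images of tensor products with bounded complexes of flat modules of finite presentation. -/

set_option autoImplicit false
set_option backward.isDefEq.respectTransparency false
set_option linter.style.haveILetI false

universe u

open CategoryTheory CategoryTheory.Limits AlgebraicGeometry CategoryTheory.Pretriangulated

attribute [local instance] HasDerivedCategory.standard

noncomputable section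

namespace Groth.Agent.FMPerfLib

open Groth.Agent.DCohLib Groth.Agent.DCohMore

variable {X S : Scheme.{u}}

/-- Induction on a bounded complex through its terms. -/
theorem bounded_terms (P : CochainComplex X.Modules ℤ → Prop) (Q : X.Modules → Prop)
    (hzero : ∀ E : CochainComplex X.Modules ℤ, (∀ n, IsZero (E.X n)) → P E)
    (hsingle : ∀ (a : ℤ) (M : X.Modules), Q M →
      P ((HomologicalComplex.single X.Modules (ComplexShape.up ℤ) a).obj M))
    (hsplit : ∀ T : ShortComplex (CochainComplex X.Modules ℤ),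
      (∀ q, (T.map (HomologicalComplex.eval X.Modules (ComplexShape.up ℤ) q)).Splitting) →
        P T.X₁ → P T.X₃ → P T.X₂)
    (hQiso : ∀ {M N : X.Modules}, (M ≅ N) → Q M → Q N) (hQ0 : ∀ M : X.Modules, IsZero M → Q M) :
    ∀ (k : ℕ) (a : ℤ) (E : CochainComplex X.Modules ℤ),
      (∀ i, i < a ∨ a + k ≤ i → IsZero (E.X i)) → (∀ i, Q (E.X i)) → P E
  | 0, a, E, h, _ => hzero E fun i => h i (by omega)
  | k + 1, a, E, h, hterm => by
    let B := brutalGE E (a + 1)
    have hg : ∀ i, (ComplexShape.up ℤ).Rel i a → E.d i a ≫ 𝟙 (E.X a) = 0 := fun i hi => by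
      have hi' : i + 1 = a := hi
      exact (h i (by omega)).eq_of_src _ _
    let g := HomologicalComplex.mkHomToSingle (𝟙 (E.X a)) hg
    have hfg : brutalGEι E (a + 1) ≫ g = 0 := HomologicalComplex.hom_ext _ _ fun i => by
      rcases eq_or_ne i a with rfl | hi
      · exact (isZero_brutalGE_X E (i + 1) i (by omega)).eq_of_src _ _
      · exact (HomologicalComplex.isZero_single_obj_X _ _ _ _ hi).eq_of_tgt _ _
    refine hsplit (ShortComplex.mk (brutalGEι E (a + 1)) g hfg) (fun q => ?_) ?_ (hsingle a (E.X a) (hterm a))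
    · by_cases hq : q = a
      · subst hq
        refine ShortComplex.Splitting.ofIsZeroOfIsIso _ (isZero_brutalGE_X E (q + 1) q (by omega)) ?_
        show IsIso (g.f q)
        rw [HomologicalComplex.mkHomToSingle_f]
        infer_instance
      · refine ShortComplex.Splitting.ofIsIsoOfIsZero _ ?_
          (HomologicalComplex.isZero_single_obj_X (ComplexShape.up ℤ) a (E.X a) q hq)
        show IsIso ((brutalGEι E (a + 1)).f q)
        by_cases hq' : a + 1 ≤ q
        · exact isIso_brutalGEι_f E (a + 1) q hq'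
        · exact ⟨0, (isZero_brutalGE_X E (a + 1) q (by omega)).eq_of_src _ _, (h q (by omega)).eq_of_src _ _⟩
    · refine bounded_terms P Q hzero hsingle hsplit hQiso hQ0 k (a + 1) B (fun i hi => ?_) fun i => ?_
      · rcases hi with hi | hi
        · exact isZero_brutalGE_X E (a + 1) i hi
        · exact IsZero.of_mono ((brutalGEι E (a + 1)).f i) (h i (by omega))
      · by_cases hi : a + 1 ≤ i
        · haveI := isIso_brutalGEι_f E (a + 1) i hi
          exact hQiso (asIso ((brutalGEι E (a + 1)).f i)).symm (hterm i)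
        · exact hQ0 _ (isZero_brutalGE_X E (a + 1) i (by omega))

theorem isPerfect_of_isZero {E : DCoh.D S} (h : IsZero E) : DCoh.IsPerfect E := by
  let A : DCoh.D S := DerivedCategory.Q.obj (shiftUnitCx S 0)
  have hA : DCoh.IsPerfect A := isPerfect_shiftUnitCx 0
  exact isPerfect_iso ((isZero_zero _).iso h)
    (isPerfect_obj₃ (contractibleTriangle A) (contractible_distinguished A) hA hA)

/-- The direct image of the tensor product of a perfect object with a bounded complex of flat modules of finite
presentation with supports proper over the base is perfect. -/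
theorem isPerfect_rpush_lTensorCx_terms (f : X ⟶ S) [LocallyOfFinitePresentation f] [QuasiCompact f]
    [QuasiSeparated f] [DCoh.HasRpush f] (E : DCoh.D X) (hE : DCoh.IsPerfect E)
    (K : CochainComplex X.Modules ℤ) [DCoh.HasLTensorCx K] (a b : ℤ) (hb : DCoh.VanishesOutside K a b)
    (hfp : ∀ i : ℤ, CohB1.IsFP (K.X i)) (hflat : ∀ i : ℤ, FlatMod.IsFlatOver f (K.X i))
    (hsupp : ∀ i : ℤ, ClSub.IsProperOver f (CohB1.support (K.X i))) :
    DCoh.IsPerfect ((DCoh.Rpush f).obj ((DCoh.LTensorCx K).obj E)) := by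
  let P := (resX X).obj (DerivedCategory.Q.objPreimage E)
  have hP : DCoh.IsKFlat P := isKFlat_resX _
  haveI : SiteCmp.HasRpushD (ModSite.RMor.ofScheme f) := ‹DCoh.HasRpush f›
  obtain ⟨_, _⟩ := SiteCmpLib.exists_triangulated_rpushD (ModSite.RMor.ofScheme f)
  let G : DCoh.D X ⥤ DCoh.D S := SiteCmp.RpushD (ModSite.RMor.ofScheme f)
  let l := lTensorCxIsoQ P P (𝟙 P) inferInstance hP
  let Pc : CochainComplex X.Modules ℤ → Prop := fun C =>
    DCoh.IsPerfect (G.obj (DerivedCategory.Q.obj (((DCoh.tensorCx (X := X)).flip.obj P).obj C)))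
  let Qm : X.Modules → Prop := fun M =>
    IsZero M ∨ (CohB1.IsFP M ∧ FlatMod.IsFlatOver f M ∧ ClSub.IsProperOver f (CohB1.support M))
  have hzero : ∀ C : CochainComplex X.Modules ℤ, (∀ n, IsZero (C.X n)) → Pc C := fun C hC =>
    isPerfect_of_isZero (G.map_isZero (DerivedCategory.Q.map_isZero
      (((DCoh.tensorCx (X := X)).flip.obj P).map_isZero (isZero_of_X hC))))
  have hsingle : ∀ (n : ℤ) (M : X.Modules), Qm M →
      Pc ((HomologicalComplex.single X.Modules (ComplexShape.up ℤ) n).obj M) := by
    rintro n M (hM | ⟨h1, h2, h3⟩)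
    · exact hzero _ fun q => ((HomologicalComplex.single X.Modules (ComplexShape.up ℤ) n ⋙
        HomologicalComplex.eval X.Modules (ComplexShape.up ℤ) q).map_isZero hM)
    · obtain ⟨e⟩ := nonempty_lTensorMod_single M E
      have h0 : DCoh.IsPerfect (G.obj ((DCoh.LTensorMod M).obj E)) :=
        isPerfect_rpush_lTensorMod_fp f E hE M h1 h2 h3
      have h0' : DCoh.IsPerfect (G.obj ((DCoh.LTensorCx P).obj (DerivedCategory.Q.obj (sgl₀ M)))) :=
        isPerfect_iso (G.mapIso (e ≪≫ (DCoh.LTensorCx (sgl₀ M)).mapIso (resXIso E).symm ≪≫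
          lTensorIso (sgl₀ M) P hP ≪≫ DerivedCategory.Q.mapIso (TildeD.tensorCxSymm _ _) ≪≫
          (l.app (sgl₀ M)).symm)) h0
      let es : DerivedCategory.Q.obj ((HomologicalComplex.single X.Modules (ComplexShape.up ℤ) n).obj M) ≅
          (DerivedCategory.Q.obj (sgl₀ M))⟦-n⟧ :=
        DerivedCategory.Q.mapIso
          (((CochainComplex.singleFunctors X.Modules).shiftIso (-n) n 0 (by omega)).app M).symm ≪≫
        (DerivedCategory.Q.commShiftIso (-n)).app _
      exact isPerfect_iso (G.mapIso ((lTensorShift P hP _ (-n)).symm ≪≫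
          (DCoh.LTensorCx P).mapIso es.symm ≪≫ l.app _))
        (isPerfect_iso ((G.commShiftIso (-n)).app _).symm (isPerfect_shift h0' (-n)))
  have hsplit : ∀ T : ShortComplex (CochainComplex X.Modules ℤ),
      (∀ q, (T.map (HomologicalComplex.eval X.Modules (ComplexShape.up ℤ) q)).Splitting) →
        Pc T.X₁ → Pc T.X₃ → Pc T.X₂ := fun T σ h1 h3 =>
    isPerfect_obj₂ _ (G.map_distinguished _ (DerivedCategory.triangleOfSES_distinguished
      (Groth.Agent.KFlat.shortExact_totR_of_splitting (ModSite.tensorBi X.sheaf) P T σ))) h1 h3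
  have h : Pc K := bounded_terms Pc Qm hzero hsingle hsplit
    (fun {M N} e h => h.imp (fun hM => hM.of_iso e.symm) fun ⟨h1, h2, h3⟩ =>
      ⟨(SheafOfModules.isFinitePresentation X.ringCatSheaf).prop_of_iso e h1,
        fun x => PullbackMod.isFlatOverAt_of_iso e f x (h2 x), isClosedUnderIso_support e ▸ h3⟩)
    (fun M hM => Or.inl hM) (b + 1 - a).toNat a K (fun i hi => hb i (by omega))
    fun i => Or.inr ⟨hfp i, hflat i, hsupp i⟩
  exact isPerfect_iso (G.mapIso (DerivedCategory.Q.mapIso (TildeD.tensorCxSymm _ _) ≪≫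
    (lTensorIso K P hP).symm ≪≫ (DCoh.LTensorCx K).mapIso (resXIso E))) h

end Groth.Agent.FMPerfLib
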